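import Cfsg.Agent.H94.ONT.H3.RChk0
import Cfsg.Agent.H94.ONT.H3.RChk1
import Cfsg.Agent.H94.ONT.H3.RChk2

set_option autoImplicit false
set_option linter.all false

namespace Cfsg.Agent.H94.ONT

open Cfsg.Agent.H35 Cfsg.Spor

theorem h3_rall : ∀ p, p < 5598 → h3_rf p = true := by
  apply allR_blocks h3_rf 5598 10 6 _ (by decide)
  intro k hk
  interval_cases k
  · exact h3_rchk_0
  · exact h3_rchk_1
  · exact h3_rchk_2
  · exact h3_rchk_3
  · exact h3_rchk_4
  · exact h3_rchk_5

theorem h3_circ_ok : circChk (fullW h3_rws h3_prels) h3_circT 0 h3_ccert = true := by decide +kernel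
theorem h3_hc_ok : allR (fun c => hcChk h3_rsw h3_hc1T h3_hc2T c) 5 3 0 = true := by decide +kernel
theorem h3_h0 : RData.aord (h3_rd.ent 0 1) = 0 := by decide +kernel

end Cfsg.Agent.H94.ONT
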